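import Mathlib
import Cfsg.Agent.H23.HN.Collapse.Data

/-!
A derivation that a word fixes the first coset (generated data).
-/

set_option autoImplicit false
set_option maxRecDepth 100000
set_option linter.all false
set_option Elab.async false

namespace H23
namespace HN
namespace Collapse

open H93.CosetI

noncomputable section

def st0 : List Step := [(0,[],[]),
(0,[],[]),
(0,[],[]),
(8,[4],[0,2]),
(0,[],[]),
(0,[],[]),
(0,[],[]),
(0,[],[]),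
(0,[],[]),
(2,[8,10,12,14,16],[]),
(0,[],[]),
(0,[],[]),
(0,[],[]),
(3,[4,20,22,24],[0]),
(0,[],[]),
(0,[],[]),
(0,[],[]),
(9,[0,28,30,32],[4]),
(0,[],[]),
(0,[],[]),
(0,[],[]),
(0,[],[]),
(0,[],[]),
(0,[],[]),
(0,[],[]),
(0,[],[]),
(0,[],[]),
(0,[],[]),
(0,[],[]),
(6,[19,36,38,40,42,44,46,48,50,52,54,56],[0,27,25]),
(0,[],[]),
(0,[],[]),
(0,[],[]),
(0,[],[]),
(0,[],[]),
(0,[],[]),
(0,[],[]),
(0,[],[]),
(0,[],[]),
(0,[],[]),
(0,[],[]),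
(0,[],[]),
(0,[],[]),
(0,[],[]),
(0,[],[]),
(0,[],[]),
(0,[],[]),
(0,[],[]),
(0,[],[]),
(3,[1,8,94,96],[2]),
(0,[],[]),
(0,[],[]),
(0,[],[]),
(0,[],[]),
(0,[],[]),
(0,[],[]),
(0,[],[]),
(0,[],[]),
(0,[],[]),
(0,[],[]),
(0,[],[]),
(6,[28,30,102,104,106,108,110,112,114,116,118,120],[2,99,97]),
(0,[],[]),
(0,[],[]),
(0,[],[]),
(0,[],[]),
(0,[],[]),
(0,[],[]),
(0,[],[]),
(0,[],[]),
(0,[],[]),
(0,[],[]),
(0,[],[]),
(0,[],[]),
(0,[],[]),
(0,[],[]),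
(0,[],[]),
(5,[27,25,59,124,126,128,130,132,134,136,138,140,142,144,146,148,150,152],[28,100]),
(0,[],[]),
(0,[],[]),
(0,[],[]),
(0,[],[]),
(0,[],[]),
(0,[],[]),
(0,[],[]),
(0,[],[]),
(0,[],[]),
(0,[],[]),
(0,[],[]),
(0,[],[]),
(10,[27,25,59,57,156,158,160,161,162,164,166,168,170,172,174,176,178],[1,8,10,90]),
(0,[],[]),
(0,[],[]),
(9,[7,35],[3,28,100]),
(0,[],[]),
(0,[],[]),
(0,[],[]),
(0,[],[]),
(0,[],[]),
(0,[],[]),
(0,[],[]),
(0,[],[]),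
(0,[],[]),
(0,[],[]),
(0,[],[]),
(0,[],[]),
(10,[99,97,123,121,188,190,192,193,194,196,198,200,202,204,206,208,210],[3,27,92,182]),
(0,[],[]),
(0,[],[]),
(0,[],[]),
(0,[],[]),
(0,[],[]),
(0,[],[]),
(0,[],[]),
(6,[35,186,155,214,216,218,220,222,224,226],[5,8,60,62,68]),
(3,[94,123],[60,62,68]),
(0,[],[]),
(0,[],[]),
(0,[],[]),
(9,[60,232,234,236],[94]),
(0,[],[]),
(0,[],[]),
(0,[],[]),
(0,[],[]),
(4,[9,0,27,184,240,242,244,246],[60,232,234]),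
(0,[],[]),
(0,[],[]),
(0,[],[]),
(0,[],[]),
(0,[],[]),
(0,[],[]),
(4,[11,60,62,252,254,256,258,260],[90,181,250]),
(0,[],[]),
(0,[],[]),
(0,[],[]),
(0,[],[]),
(9,[25,264,270],[184,240,242]),
(1,[272],[]),
(1,[275,271],[]),
(0,[],[]),
(8,[252],[68,231,121]),
(1,[280],[]),
(1,[283,253],[]),
(1,[283,254],[]),
(1,[189,286],[]),
(1,[289],[]),
(1,[291,256],[]),
(9,[68,70],[285,188,292]),
(0,[],[]),
(0,[],[]),
(0,[],[]),
(0,[],[]),
(0,[],[]),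
(0,[],[]),
(0,[],[]),
(0,[],[]),
(0,[],[]),
(0,[],[]),
(0,[],[]),
(0,[],[]),
(0,[],[]),
(0,[],[]),
(0,[],[]),
(0,[],[]),
(5,[66,296,298,302,304,306,308,310,312,314,316,318,320,322,324,326],[65,68,70,72]),
(2,[229,266,268],[70,72,329]),
(1,[331],[]),
(1,[333,327],[]),
(1,[279,334],[]),
(1,[333,328],[]),
(1,[337],[]),
(1,[341,325],[]),
(0,[],[]),
(0,[],[]),
(8,[294,293,300],[344]),
(1,[349],[]),
(1,[351,345],[]),
(1,[351,346],[]),
(3,[294,258,260],[353,354]),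
(0,[],[]),
(0,[],[]),
(0,[],[]),
(3,[76,78,362],[74,358]),
(0,[],[]),
(0,[],[]),
(0,[],[]),
(0,[],[]),
(0,[],[]),
(0,[],[]),
(0,[],[]),
(0,[],[]),
(0,[],[]),
(6,[339,278,342,366,368,370,372,374,376,378,380,382],[74,358,365]),
(0,[],[]),
(0,[],[]),
(0,[],[]),
(0,[],[]),
(0,[],[]),
(0,[],[]),
(0,[],[]),
(0,[],[]),
(0,[],[]),
(0,[],[]),
(0,[],[]),
(0,[],[]),
(10,[73,353,354,357,262,386,388,389,390,392,394,396,398,400,402,404,406,408],[76,78,80]),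
(3,[75,73,294,293,190,194],[]),
(1,[412],[]),
(1,[415,196],[]),
(1,[359,416],[]),
(1,[418],[]),
(1,[421,365],[]),
(1,[421,360],[]),
(1,[421,359],[]),
(0,[],[]),
(0,[],[]),
(0,[],[]),
(0,[],[]),
(0,[],[]),
(0,[],[]),
(0,[],[]),
(10,[427,422,385,383,428,430,432,433,434,436,438,440],[75,73,71,231,122,239,237,249,247]),
(0,[],[]),
(0,[],[]),
(0,[],[]),
(8,[362,423,424],[446]),
(1,[451],[]),
(1,[453,447],[]),
(1,[453,448],[]),
(0,[],[]),
(8,[82,458],[411]),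
(0,[],[]),
(9,[411,409,462],[82,84]),
(0,[],[]),
(0,[],[]),
(0,[],[]),
(0,[],[]),
(0,[],[]),
(4,[81,455,456,466,468,470,472,474],[411,409,462]),
(9,[83,81,362,423,198,444],[]),
(1,[478],[]),
(1,[481,445],[]),
(1,[459,482],[]),
(1,[484],[]),
(1,[487,460],[]),
(1,[201,488],[]),
(1,[491],[]),
(1,[493,409],[]),
(1,[203,494],[]),
(1,[497],[])]
theorem ok0 : data.stepsOK st0 0 = true := by decide +kernel
def st1 : List Step := [(1,[499,462],[]),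
(1,[205,500],[]),
(1,[503],[]),
(1,[505,464],[]),
(1,[505,477],[]),
(0,[],[]),
(3,[86,510],[507,508,475]),
(9,[507,206,208],[86,88]),
(3,[424,456,466],[422,385,383]),
(1,[516],[]),
(1,[519,468],[]),
(1,[429,520],[]),
(1,[523],[]),
(1,[525,470],[]),
(10,[241,185,92,182,213,211,209,208,514,89,510,512,473,527,430,434,436,438,440,442,245,276],[]),
(1,[528],[]),
(1,[531,265],[]),
(1,[240,532],[]),
(1,[534],[]),
(1,[537,185],[]),
(1,[22,538],[]),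
(1,[541],[]),
(1,[543,26],[]),
(1,[20,544],[]),
(1,[546],[]),
(1,[549,5],[]),
(1,[3,550],[]),
(1,[552],[]),
(1,[555,3],[])]
theorem ok1 : data.stepsOK st1 250 = true := by decide +kernel
end

end Collapse
end HN
end H23
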